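import Mathlib
import Groth.Agent.UnipHopfLib.Socle
import Groth.Agent.ComodLib.Coeff
import Groth.Agent.GLinFinLib.Trig
import Groth.Prelude.Def_ComodSub

/-!
Lattices in the regular comodule of a flat Hopf algebra over a discrete valuation ring, and their reductions.
-/

set_option autoImplicit false
set_option maxHeartbeats 1000000

noncomputable section

universe u v w

open TensorProduct HopfRep WithConv
open scoped ComodLib

namespace Groth.Agent.DvrHopfLib

variable {A : Type u} [CommRing A] {H : Type v} [CommRing H]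

section maps

variable [Algebra A H] (S : Type w) [CommRing S] [Algebra A S]

/-- The base change map `x ↦ 1 ⊗ x`. -/
def inc : H →ₗ[A] S ⊗[A] H := TensorProduct.mk A S H 1

/-- The base change map on tensor squares. -/
def inc₂ : H ⊗[A] H →ₗ[A] (S ⊗[A] H) ⊗[S] (S ⊗[A] H) :=
  (TensorProduct.AlgebraTensorModule.distribBaseChange A S H H).toLinearMap.restrictScalars A ∘ₗ
    TensorProduct.mk A S (H ⊗[A] H) 1

lemma inc₂_tmul (x y : H) : inc₂ S (x ⊗ₜ[A] y) = inc S x ⊗ₜ[S] inc S y := by
  simp [inc₂, inc, TensorProduct.AlgebraTensorModule.distribBaseChange]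

/-- The reduction of a lattice. -/
def red (L : Submodule A H) : Submodule S (S ⊗[A] H) := Submodule.span S (inc S '' L)

lemma inc₂_mem_range {L : Submodule A H} {z : H ⊗[A] H} (hz : z ∈ LinearMap.range (L.subtype.rTensor H)) :
    inc₂ S z ∈ LinearMap.range ((red S L).subtype.rTensor (S ⊗[A] H)) := by
  obtain ⟨w, rfl⟩ := hz
  induction w using TensorProduct.induction_on with
  | zero => simp
  | add p q hp hq => rw [map_add, map_add]; exact add_mem hp hq
  | tmul l h =>
    rw [LinearMap.rTensor_tmul, inc₂_tmul]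
    exact ⟨⟨inc S l, Submodule.subset_span ⟨l, l.2, rfl⟩⟩ ⊗ₜ[S] inc S h, rfl⟩

end maps

section comul

variable [HopfAlgebra A H] (S : Type u) [CommRing S] [Algebra A S]

lemma comul_inc (x : H) :
    CoalgebraStruct.comul (R := S) (inc (A := A) S x) = inc₂ S (CoalgebraStruct.comul (R := A) x) := by
  rw [inc, TensorProduct.mk_apply, TensorProduct.comul_tmul, CommSemiring.comul_apply]
  generalize CoalgebraStruct.comul (R := A) x = z
  induction z using TensorProduct.induction_on with
  | zero => simp
  | add p q hp hq => simp only [tmul_add, map_add, hp, hq]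
  | tmul p q => simp [inc₂_tmul, inc]

end comul

section dvr

variable [IsDomain A] [IsDiscreteValuationRing A] [HopfAlgebra A H] [Module.Flat A H]
  (K : Type u) [Field K] [Algebra A K] [IsFractionRing A K]

lemma inc_injective : Function.Injective (inc (A := A) (H := H) K) :=
  Algebra.TensorProduct.includeRight_injective (IsFractionRing.injective A K)

lemma inc₂_injective : Function.Injective (inc₂ (A := A) (H := H) K) :=
  (TensorProduct.AlgebraTensorModule.distribBaseChange A K H H).injective.comp
    (Algebra.TensorProduct.includeRight_injective (B := H ⊗[A] H) (IsFractionRing.injective A K))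

lemma exists_smul_eq_inc (y : K ⊗[A] H) :
    ∃ (a : A) (h : H), a ≠ 0 ∧ algebraMap A K a • y = inc K h := by
  induction y using TensorProduct.induction_on with
  | zero => exact ⟨1, 0, one_ne_zero, by simp⟩
  | tmul c h =>
    obtain ⟨⟨b, ⟨a, ha⟩⟩, e⟩ := IsLocalization.surj (nonZeroDivisors A) c
    refine ⟨a, b • h, mem_nonZeroDivisors_iff_ne_zero.1 ha, ?_⟩
    rw [smul_tmul', smul_eq_mul, mul_comm, show c * algebraMap A K a = algebraMap A K b from e,
      inc, TensorProduct.mk_apply, ← smul_tmul, Algebra.smul_def, mul_one]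
  | add y y' hy hy' =>
    obtain ⟨a, h, ha, e⟩ := hy
    obtain ⟨a', h', ha', e'⟩ := hy'
    refine ⟨a * a', a' • h + a • h', mul_ne_zero ha ha', ?_⟩
    rw [map_add, map_smul, map_smul, ← e, ← e', ← algebraMap_smul (R := A) K a', ← algebraMap_smul (R := A) K a,
      smul_smul, smul_smul, map_mul, smul_add, mul_comm (algebraMap A K a')]

/-- The lattice cut out by a subspace. -/
def cut (W : Submodule K (K ⊗[A] H)) : Submodule A H :=
  (W.restrictScalars A).comap (inc K)

lemma mem_cut {W : Submodule K (K ⊗[A] H)} {x : H} : x ∈ cut K W ↔ inc K x ∈ W := Iff.rfl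

lemma mem_cut_of_smul {W : Submodule K (K ⊗[A] H)} {x : H} {a : A} (ha : a ≠ 0) (h : a • x ∈ cut K W) :
    x ∈ cut K W := by
  rw [mem_cut, map_smul, ← algebraMap_smul (R := A) K a] at h
  exact (Submodule.smul_mem_iff W (fun e => ha (IsFractionRing.injective A K (e.trans (map_zero _).symm)))).1 h

/-- Saturation: a tensor lies over the lattice if it lies over the subspace. -/
theorem mem_range_cut {W : Submodule K (K ⊗[A] H)} {z : H ⊗[A] H}
    (hz : inc₂ K z ∈ LinearMap.range (W.subtype.rTensor (K ⊗[A] H))) :
    z ∈ LinearMap.range ((cut K W).subtype.rTensor H) := by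
  obtain ⟨t, ht⟩ := hz
  have key : ∀ t : W ⊗[K] (K ⊗[A] H), ∃ (a : A) (w : cut K W ⊗[A] H), a ≠ 0 ∧
      algebraMap A K a • W.subtype.rTensor (K ⊗[A] H) t = inc₂ K ((cut K W).subtype.rTensor H w) := by
    intro t
    induction t using TensorProduct.induction_on with
    | zero => exact ⟨1, 0, one_ne_zero, by simp⟩
    | tmul x y =>
      obtain ⟨a, h, ha, e⟩ := exists_smul_eq_inc K (x : K ⊗[A] H)
      obtain ⟨a', h', ha', e'⟩ := exists_smul_eq_inc K y
      have hh : h ∈ cut K W := by rw [mem_cut, ← e]; exact W.smul_mem _ x.2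
      refine ⟨a * a', ⟨h, hh⟩ ⊗ₜ[A] h', mul_ne_zero ha ha', ?_⟩
      rw [LinearMap.rTensor_tmul, LinearMap.rTensor_tmul]
      simp only [Submodule.subtype_apply]
      rw [inc₂_tmul, ← e, ← e', map_mul, smul_tmul_smul]
    | add t t' h h' =>
      obtain ⟨a, w, ha, e⟩ := h
      obtain ⟨a', w', ha', e'⟩ := h'
      refine ⟨a * a', a' • w + a • w', mul_ne_zero ha ha', ?_⟩
      rw [map_add, map_add, map_add, map_smul, map_smul, map_smul, map_smul, ← e, ← e',
        ← algebraMap_smul (R := A) K a', ← algebraMap_smul (R := A) K a,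
        smul_smul, smul_smul, map_mul, smul_add, mul_comm (algebraMap A K a')]
  obtain ⟨a, w, ha, e⟩ := key t
  rw [ht, algebraMap_smul, ← map_smul] at e
  have e' := inc₂_injective (A := A) (H := H) K e
  -- descend along the torsion-free quotient
  let L := cut K W
  have : Module.IsTorsionFree A (H ⧸ L) := Module.isTorsionFree_iff_smul_eq_zero.2 fun r m hm => by
    obtain ⟨x, rfl⟩ := Submodule.Quotient.mk_surjective L m
    by_cases hr : r = 0
    · exact .inl hr
    · exact .inr ((Submodule.Quotient.mk_eq_zero L).2 (mem_cut_of_smul K hr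
        ((Submodule.Quotient.mk_eq_zero L).1 (by rw [Submodule.Quotient.mk_smul]; exact hm))))
  have : Module.Flat A (H ⧸ L) := inferInstance
  have hq : L.mkQ.rTensor H z = 0 := by
    have h0 : a • L.mkQ.rTensor H z = 0 := by
      rw [← map_smul, e', ← LinearMap.comp_apply, ← LinearMap.rTensor_comp,
        show L.mkQ ∘ₗ L.subtype = 0 from LinearMap.ext fun x => (Submodule.Quotient.mk_eq_zero _).2 x.2,
        LinearMap.rTensor_zero, LinearMap.zero_apply]
    exact (smul_eq_zero.1 h0).resolve_left ha
  exact (rTensor_exact H (LinearMap.exact_subtype_mkQ L) L.mkQ_surjective z).1 hq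

/-- The comultiplication of a lattice from a subcomodule. -/
theorem comul_mem_range_of_isSubcomod {W : Submodule K (K ⊗[A] H)}
    (hW : IsSubcomod (k := K) (A := K ⊗[A] H) W) {x : H} (hx : x ∈ cut K W) :
    CoalgebraStruct.comul (R := A) x ∈ LinearMap.range ((cut K W).subtype.rTensor H) := by
  refine mem_range_cut K ?_
  rw [← comul_inc]
  exact hW _ hx

/-- Reductions of lattices of subcomodules are subcomodules. -/
theorem isSubcomod_red {W : Submodule K (K ⊗[A] H)} (hW : IsSubcomod (k := K) (A := K ⊗[A] H) W)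
    (S : Type u) [Field S] [Algebra A S] :
    IsSubcomod (k := S) (A := S ⊗[A] H) (red S (cut K W)) := by
  intro y hy
  induction hy using Submodule.span_induction with
  | mem y hy =>
    obtain ⟨x, hx, rfl⟩ := hy
    show CoalgebraStruct.comul (R := S) (inc S x) ∈ _
    rw [comul_inc]
    exact inc₂_mem_range S (comul_mem_range_of_isSubcomod K hW hx)
  | zero => rw [map_zero]; exact zero_mem _
  | add p q _ _ hp hq => rw [map_add]; exact add_mem hp hq
  | smul c p _ hp => rw [map_smul]; exact Submodule.smul_mem _ c hp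

local notation "k" => IsLocalRing.ResidueField A

lemma inc_residue_surjective : Function.Surjective (inc (A := A) (H := H) k) := by
  intro y
  induction y using TensorProduct.induction_on with
  | zero => exact ⟨0, map_zero _⟩
  | add p q hp hq =>
    obtain ⟨a, rfl⟩ := hp
    obtain ⟨b, rfl⟩ := hq
    exact ⟨a + b, map_add _ _ _⟩
  | tmul c h =>
    obtain ⟨a, rfl⟩ := IsLocalRing.residue_surjective c
    refine ⟨a • h, ?_⟩
    rw [inc, TensorProduct.mk_apply, ← smul_tmul, Algebra.smul_def, mul_one]
    rfl

/-- One step of a flag reduces to a step of at most one dimension. -/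
theorem exists_red_le_sup_span {W W' : Submodule K (K ⊗[A] H)}
    (hdep : ∀ u ∈ W', ∀ v ∈ W', ∃ α β : K, (α ≠ 0 ∨ β ≠ 0) ∧ α • u + β • v ∈ W) :
    ∃ e : k ⊗[A] H, red k (cut K W') ≤ red k (cut K W) ⊔ Submodule.span k {e} := by
  set C := red k (cut K W) with hC
  by_cases hall : ∀ x ∈ cut K W', inc k x ∈ C
  · exact ⟨0, (Submodule.span_le.2 (by rintro _ ⟨x, hx, rfl⟩; exact hall x hx)).trans le_sup_left⟩
  push Not at hall
  obtain ⟨x, hx, hxC⟩ := hall
  refine ⟨inc k x, Submodule.span_le.2 ?_⟩
  rintro _ ⟨y, hy, rfl⟩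
  obtain ⟨α, β, hne, hmem⟩ := hdep _ hx _ hy
  -- clear denominators
  obtain ⟨⟨a, ⟨s, hs⟩⟩, ea⟩ := IsLocalization.surj (nonZeroDivisors A) α
  obtain ⟨⟨b, ⟨t, ht⟩⟩, eb⟩ := IsLocalization.surj (nonZeroDivisors A) β
  have hs0 := mem_nonZeroDivisors_iff_ne_zero.1 hs
  have ht0 := mem_nonZeroDivisors_iff_ne_zero.1 ht
  replace ea : α * algebraMap A K s = algebraMap A K a := ea
  replace eb : β * algebraMap A K t = algebraMap A K b := eb
  have hab : (a * t) • x + (b * s) • y ∈ cut K W := by
    rw [mem_cut, map_add, map_smul, map_smul, ← algebraMap_smul (R := A) K (a * t),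
      ← algebraMap_smul (R := A) K (b * s), map_mul, map_mul, ← ea, ← eb]
    have := W.smul_mem (algebraMap A K s * algebraMap A K t) hmem
    rw [smul_add, smul_smul, smul_smul] at this
    convert this using 2 <;> ring_nf
  have hne' : a * t ≠ 0 ∨ b * s ≠ 0 := by
    rcases hne with h | h
    · refine .inl (mul_ne_zero (fun h0 => h ?_) ht0)
      rw [h0, map_zero] at ea
      exact (mul_eq_zero.1 ea).resolve_right fun e => hs0 (IsFractionRing.injective A K (e.trans (map_zero _).symm))
    · refine .inr (mul_ne_zero (fun h0 => h ?_) hs0)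
      rw [h0, map_zero] at eb
      exact (mul_eq_zero.1 eb).resolve_right fun e => ht0 (IsFractionRing.injective A K (e.trans (map_zero _).symm))
  generalize a * t = p at hab hne'
  generalize b * s = q at hab hne'
  have hmemC : ∀ w ∈ cut K W, inc k w ∈ C := fun w hw => Submodule.subset_span ⟨w, hw, rfl⟩
  rcases ValuationRing.dvd_total p q with ⟨c, hc⟩ | ⟨c, hc⟩
  · -- `q = p * c`
    have hp : p ≠ 0 := fun h0 => by
      rcases hne' with h | h
      · exact h h0
      · exact h (by rw [hc, h0, zero_mul])
    have h1 : x + c • y ∈ cut K W := mem_cut_of_smul K hp (by rwa [smul_add, smul_smul, ← hc])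
    have h2 := hmemC _ h1
    rw [map_add, map_smul, ← algebraMap_smul (R := A) k c] at h2
    have hc0 : algebraMap A k c ≠ 0 := fun h0 => hxC (by rwa [h0, zero_smul, add_zero] at h2)
    have h3 : inc (A := A) k y = (algebraMap A k c)⁻¹ • (inc (A := A) k x + algebraMap A k c • inc (A := A) k y) -
        (algebraMap A k c)⁻¹ • inc (A := A) k x := by
      rw [smul_add, smul_smul, inv_mul_cancel₀ hc0, one_smul]
      abel
    rw [h3]
    exact sub_mem (Submodule.mem_sup_left (C.smul_mem _ h2))
      (Submodule.mem_sup_right (Submodule.smul_mem _ _ (Submodule.mem_span_singleton_self _)))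
  · -- `p = q * c`
    have hq : q ≠ 0 := fun h0 => by
      rcases hne' with h | h
      · exact h (by rw [hc, h0, zero_mul])
      · exact h h0
    have h1 : c • x + y ∈ cut K W := mem_cut_of_smul K hq (by rwa [smul_add, smul_smul, ← hc])
    have h2 := hmemC _ h1
    rw [map_add, map_smul, ← algebraMap_smul (R := A) k c] at h2
    have h3 : inc (A := A) k y = (algebraMap A k c • inc (A := A) k x + inc (A := A) k y) - algebraMap A k c • inc (A := A) k x := by abel
    rw [h3]
    exact sub_mem (Submodule.mem_sup_left h2)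
      (Submodule.mem_sup_right (Submodule.smul_mem _ _ (Submodule.mem_span_singleton_self _)))

end dvr

end Groth.Agent.DvrHopfLib
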